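import Cfsg.Agent.Lib.Helper5.AutSO.GenO1
import Cfsg.Agent.Lib.Helper5.AutSU.Param
import Mathlib

/-!
# Engel-type relations between the root subgroups of adjacent nodes (helper5)

Used to exclude the reversal of the diagram of type `B_m`: the positive root subgroups of two
adjacent short nodes generate a group of class two, those of the last two nodes do not.
-/

set_option autoImplicit false

namespace Cfsg.Agent.Lib.Helper5.AutSO

open Matrix Cfsg Cfsg.Agent.Lib.Helper5.GLBN Cfsg.Agent.Lib.Helper8.SpBN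
open Cfsg.Agent.Lib.Helper8.Tw Cfsg.Agent.PSUT Cfsg.Agent.Lib.Helper5.AutSU
open scoped MatrixGroups

section entries

variable {N : ℕ} {F : Type*} [Field F]

theorem ne_zero_up {i : ℕ} {M : Matrix (Fin N) (Fin N) F} (h : IsUpU M) (hb : IsBlkU i M)
    {a b : Fin N} (hne : M a b ≠ 0) : a = b ∨ (a < b ∧ blk N i a b) := by
  rcases lt_trichotomy a b with hab | hab | hab
  · right
    refine ⟨hab, ?_⟩
    by_contra hn
    exact hne (hb a b hab hn)
  · left
    exact hab
  · exact absurd (h.1 a b hab) hne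

/-- the middle product vanishes -/
theorem mid_zero {i : ℕ} (hi : 2 * (i + 1) + 4 ≤ N) {X Y : Matrix (Fin N) (Fin N) F}
    (hX : IsUpU X) (hXb : IsBlkU i X) (hY : IsUpU Y) (hYb : IsBlkU (i + 1) Y) :
    (X - 1) * Y * (X - 1) = 0 := by
  ext a d
  rw [Matrix.mul_apply, Matrix.zero_apply]
  apply Finset.sum_eq_zero
  intro c _
  rw [Matrix.mul_apply, Finset.sum_mul]
  apply Finset.sum_eq_zero
  intro b _
  by_contra hne
  have h12 := left_ne_zero_of_mul hne
  have h3 := sub_one_ne_up hX hXb (right_ne_zero_of_mul hne)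
  have h1 := sub_one_ne_up hX hXb (left_ne_zero_of_mul h12)
  have h2 := ne_zero_up hY hYb (right_ne_zero_of_mul h12)
  have ha := a.2
  have hb := b.2
  have hc := c.2
  have hd := d.2
  obtain ⟨h1a, h1b⟩ := h1
  obtain ⟨h3a, h3b⟩ := h3
  rw [Fin.lt_def] at h1a h3a
  unfold blk at h1b h3b
  rcases h2 with h2 | ⟨h2a, h2b⟩
  · have h2' : (b : ℕ) = c := congrArg Fin.val h2
    omega
  · rw [Fin.lt_def] at h2a
    unfold blk at h2b
    omega

/-- **(A)** the positive root elements of two adjacent short nodes: `X` commutes with its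
conjugate by `Y` -/
theorem engel_short {i : ℕ} (hi : 2 * (i + 1) + 4 ≤ N) {X Y Y' : Matrix (Fin N) (Fin N) F}
    (hX : IsUpU X) (hXb : IsBlkU i X) (hY : IsUpU Y) (hYb : IsBlkU (i + 1) Y)
    (hY' : IsUpU Y') (hYb' : IsBlkU (i + 1) Y') (hYY : Y * Y' = 1) :
    X * (Y * X * Y') = (Y * X * Y') * X := by
  have hZ : Y * X * Y' - 1 = Y * (X - 1) * Y' := by
    rw [Matrix.mul_sub, Matrix.sub_mul, Matrix.mul_one, hYY]
  apply comm_of_mul_zero
  · rw [hZ]
    have e : (X - 1) * (Y * (X - 1) * Y') = ((X - 1) * Y * (X - 1)) * Y' := by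
      simp only [Matrix.mul_assoc]
    rw [e, mid_zero hi hX hXb hY hYb, Matrix.zero_mul]
  · rw [hZ]
    have e : Y * (X - 1) * Y' * (X - 1) = Y * ((X - 1) * Y' * (X - 1)) := by
      simp only [Matrix.mul_assoc]
    rw [e, mid_zero hi hX hXb hY' hYb', Matrix.mul_zero]

theorem xS_inv (φ : F →+* F) (a b : Fin N) (hab : a ≠ b) (c : F) :
    (xS φ a b hab c)⁻¹
      = tv b.rev a.rev (fun h => hab (Fin.rev_injective h).symm) (φ c) * tv a b hab (-c) := by
  unfold xS
  rw [_root_.mul_inv_rev, Cfsg.Agent.Lib.Helper8.SpBN.tv_inv, Cfsg.Agent.Lib.Helper8.SpBN.tv_inv,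
    neg_neg]

theorem xO_mul_apply_other (φ : F →+* F) (k m : Fin N) (hkm : k ≠ m) (hmk : m ≠ k.rev)
    (hk : k ≠ k.rev) (a b : F) (M : Matrix (Fin N) (Fin N) F) (i j : Fin N) (hik : i ≠ k)
    (him : i ≠ m) :
    (((xO φ k m hkm hmk hk a b : GL (Fin N) F) : Matrix (Fin N) (Fin N) F) * M) i j = M i j := by
  rw [Matrix.mul_apply, Finset.sum_eq_single i]
  · rw [xO_apply, if_pos rfl, if_neg (fun h => hik h.1.symm), if_neg (fun h => hik h.1.symm),
      if_neg (fun h => him h.1.symm), add_zero, add_zero, add_zero, one_mul]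
  · intro c _ hc
    rw [xO_apply, if_neg (fun h => hc h.symm), if_neg (fun h => hik h.1.symm),
      if_neg (fun h => hik h.1.symm), if_neg (fun h => him h.1.symm), add_zero, add_zero,
      add_zero, zero_mul]
  · intro h
    exact absurd (Finset.mem_univ _) h

/-- the entry which tells `x (y x y⁻¹)` from `(y x y⁻¹) x` apart -/
theorem engel_entries (h2 : (2 : F) ≠ 0) (p1 p2 p3 : Fin N) (h12 : p1 ≠ p2) (h13 : p1 ≠ p3)
    (h23 : p2 ≠ p3) (h3r : p3 ≠ p2.rev) (h2r : p2 ≠ p2.rev) (h1r2 : p1 ≠ p2.rev)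
    (h21r : p2 ≠ p1.rev) (h31r : p3 ≠ p1.rev) (h1r : p1 ≠ p1.rev) :
    xO (RingHom.id F) p2 p3 h23 h3r h2r 2 (-2)
        * (xS (RingHom.id F) p1 p2 h12 1 * xO (RingHom.id F) p2 p3 h23 h3r h2r 2 (-2)
          * (xS (RingHom.id F) p1 p2 h12 1)⁻¹)
      ≠ (xS (RingHom.id F) p1 p2 h12 1 * xO (RingHom.id F) p2 p3 h23 h3r h2r 2 (-2)
          * (xS (RingHom.id F) p1 p2 h12 1)⁻¹)
        * xO (RingHom.id F) p2 p3 h23 h3r h2r 2 (-2) := by
  intro e
  have e1 := congrArg (fun g : GL (Fin N) F => (g : Matrix (Fin N) (Fin N) F) p1 p2.rev) e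
  have h21 : p2 ≠ p1 := h12.symm
  have h31 : p3 ≠ p1 := h13.symm
  have h32 : p3 ≠ p2 := h23.symm
  have hr3 : p2.rev ≠ p3 := h3r.symm
  have hr2 : p2.rev ≠ p2 := h2r.symm
  have hr1 : p2.rev ≠ p1 := h1r2.symm
  have hrr : p2.rev ≠ p1.rev := fun h => h21 (Fin.rev_injective h)
  have hrr' : p1.rev ≠ p2.rev := fun h => hrr h.symm
  have h1r2' : p1.rev ≠ p2 := h21r.symm
  have h1r3' : p1.rev ≠ p3 := h31r.symm
  simp only [xS_inv, Units.val_mul, RingHom.id_apply] at e1
  rw [xO_mul_apply_other _ _ _ _ _ _ _ _ _ _ _ h12 h13] at e1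
  simp only [← Matrix.mul_assoc] at e1
  simp only [mul_xO_apply, mul_tv_apply, xS_apply _ _ _ _ h2r, RingHom.id_apply] at e1
  simp [h12, h13, h23, h21, h31, h32, h3r, h2r, h1r2, hr3, hr2, hr1, hrr, hrr', h21r, h31r,
    h1r2', h1r3', h1r] at e1
  exact h2 e1

end entries

section grp

variable {N : ℕ} {F : Type*} [Field F] [Fintype F]

theorem engel_last_ne' (h2 : (2 : F) ≠ 0) {k : ℕ} (hk : 2 * (k + 1) + 3 = N) :
    ∃ x ∈ Xp N F (RingHom.id F) (k + 1), ∃ y ∈ Xp N F (RingHom.id F) k,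
      x * (y * x * y⁻¹) ≠ (y * x * y⁻¹) * x := by
  have hφ : ∀ x : F, (RingHom.id F) ((RingHom.id F) x) = x := fun _ => rfl
  have hb : (-2 : F) + (RingHom.id F) (-2) + 2 * (RingHom.id F) 2 = 0 := by
    simp only [RingHom.id_apply]
    ring
  have hk' : 2 * k + 4 ≤ N := by omega
  refine ⟨xpO hφ (k + 1) hk 2 (-2) hb, xpO_mem_Xp hφ (k + 1) hk 2 (-2) hb, xpS hφ k hk' 1,
    xpS_mem_Xp hφ k hk' 1, ?_⟩
  intro e
  have e1 := congrArg gl e
  simp only [gl_mul, gl_inv, gl_xpO, gl_xpS] at e1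
  exact engel_entries h2 (⟨k, by omega⟩ : Fin N) ⟨k + 1, by omega⟩ ⟨k + 1 + 1, by omega⟩
    (fin_ne (by simp)) (fin_ne (by simp only; omega)) (fin_ne (by simp only; omega))
    (fin_ne (by rw [val_rev_mk]; simp only; omega)) (fin_ne (by rw [val_rev_mk]; simp only; omega))
    (fin_ne (by rw [val_rev_mk]; simp only; omega)) (fin_ne (by rw [val_rev_mk]; simp only; omega))
    (fin_ne (by rw [val_rev_mk]; simp only; omega)) (fin_ne (by rw [val_rev_mk]; simp only; omega))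
    e1

/-- **(B)** the positive root elements of the last two nodes in odd dimension: some `x` of the
last node does not commute with its conjugate by some `y` of the node before -/
theorem engel_last_ne (h2 : (2 : F) ≠ 0) {j : ℕ} (hj : 2 * j + 3 = N) (hj1 : 1 ≤ j) :
    ∃ x ∈ Xp N F (RingHom.id F) j, ∃ y ∈ Xp N F (RingHom.id F) (j - 1),
      x * (y * x * y⁻¹) ≠ (y * x * y⁻¹) * x := by
  obtain ⟨k, rfl⟩ : ∃ k, j = k + 1 := ⟨j - 1, by omega⟩
  exact engel_last_ne' h2 hj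

end grp

end Cfsg.Agent.Lib.Helper5.AutSO
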