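import Cfsg.Agent.Lib.Helper5.AutSU.Gen4
import Mathlib

/-!
# Generation by root subgroups, for a general involution `φ` (helper5)

The statements of `AutSU/Gen1`, `AutSU/Gen3` which used the unitary context only through the
facts that `φ` is an involution and that the trace is onto the fixed field, restated with these
facts as hypotheses, so that they apply to the odd-dimensional orthogonal group (`φ = id`).
-/

set_option autoImplicit false

namespace Cfsg.Agent.Lib.Helper5.AutSO

open Matrix Cfsg Cfsg.Agent.Lib.Helper5.GLBN Cfsg.Agent.Lib.Helper8.SpBN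
open Cfsg.Agent.Lib.Helper8.Tw Cfsg.Agent.PSUT Cfsg.Agent.Lib.Helper5.AutSU
open scoped MatrixGroups

section grp

variable {N : ℕ} {F : Type*} [Field F] [Fintype F] {φ : F →+* F}

/-- the standing hypotheses on the involution -/
structure GCtx (N : ℕ) (F : Type*) [Field F] (φ : F →+* F) : Prop where
  hN : 3 ≤ N
  inv : ∀ x, φ (φ x) = x
  exists_tr : ∀ s : F, φ s = s → ∃ b : F, b + φ b + s = 0

/-- the rank one subgroup of a short node contains a monomial element inducing the reflection -/
theorem GCtx.exists_mono_short (C : GCtx N F φ) {j : ℕ} (hj : j + 1 < N / 2) :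
    ∃ n : SUm N F φ, n ∈ LL N F φ j ∧
      IsMono ((gl n : GL (Fin N) F) : Matrix (Fin N) (Fin N) F) (rho N j) := by
  have hs : 2 * j + 4 ≤ N := by omega
  have ha : j < N := by omega
  have hb : j + 1 < N := by omega
  refine ⟨xpS C.inv j hs 1 * xmS C.inv j hs (-1) * xpS C.inv j hs 1, ?_, ?_⟩
  · exact mul_mem (mul_mem (Xp_le_LL j (xpS_mem_Xp C.inv j hs 1))
      (Xm_le_LL j (xmS_mem_Xm C.inv j hs (-1)))) (Xp_le_LL j (xpS_mem_Xp C.inv j hs 1))
  · rw [gl_mul, gl_mul, gl_xpS, gl_xmS]
    have hra : (((⟨j, ha⟩ : Fin N).rev : Fin N) : ℕ) = N - (j + 1) := by rw [Fin.val_rev]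
    have hrb : (((⟨j + 1, hb⟩ : Fin N).rev : Fin N) : ℕ) = N - (j + 1 + 1) := by
      rw [Fin.val_rev]
    obtain ⟨r1, r2, r3, r4, r5⟩ := short_mono_rows φ (⟨j, ha⟩ : Fin N) ⟨j + 1, hb⟩
      (fin_ne (by simp)) (fin_ne (by rw [hrb]; simp only; omega))
      (fin_ne (by rw [hra]; simp only; omega)) (fin_ne (by rw [hrb]; simp only; omega))
    have hvj : ((⟨j, ha⟩ : Fin N) : ℕ) = j := rfl
    have hvj1 : ((⟨j + 1, hb⟩ : Fin N) : ℕ) = j + 1 := rfl
    intro i k hik
    by_cases h1 : i = ⟨j, ha⟩
    · rw [h1, r1, if_neg]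
      intro e
      apply hik
      rw [h1, ← e]
      apply Fin.ext
      rw [rho_val_short hj]
      simp
    · by_cases h2 : i = ⟨j + 1, hb⟩
      · rw [h2, r2, if_neg]
        intro e
        apply hik
        rw [h2, ← e]
        apply Fin.ext
        rw [rho_val_short hj]
        simp
      · by_cases h3 : i = (⟨j + 1, hb⟩ : Fin N).rev
        · rw [h3, r3, if_neg]
          intro e
          apply hik
          rw [h3, ← e]
          apply Fin.ext
          rw [rho_val_short hj, hra, hrb]
          split_ifs <;> omega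
        · by_cases h4 : i = (⟨j, ha⟩ : Fin N).rev
          · rw [h4, r4, if_neg]
            intro e
            apply hik
            rw [h4, ← e]
            apply Fin.ext
            rw [rho_val_short hj, hra, hrb]
            split_ifs <;> omega
          · rw [r5 i k h1 h2 h4 h3, if_neg]
            intro e
            apply hik
            rw [← e]
            apply Fin.ext
            have hv1 : (i : ℕ) ≠ j := fun e' => h1 (Fin.ext e')
            have hv2 : (i : ℕ) ≠ j + 1 := fun e' => h2 (Fin.ext e')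
            have hv3 : (i : ℕ) ≠ N - (j + 1 + 1) := fun e' => h3 (Fin.ext (by rw [hrb]; exact e'))
            have hv4 : (i : ℕ) ≠ N - (j + 1) := fun e' => h4 (Fin.ext (by rw [hra]; exact e'))
            rw [rho_val_short hj]
            split_ifs <;> omega

/-- the step of the row clearing: the entry in the position `(a, b)` is removed by right
multiplication with a root element in `H` -/
theorem GCtx.clear_step (C : GCtx N F φ) (H : Subgroup (SUm N F φ))
    (h1 : ∀ a b : Fin N, a < b → a < b.rev → b ≠ b.rev → Sh N F φ (PS a b) ⊆ H)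
    (h2 : ∀ a : Fin N, a < a.rev → Sh N F φ (PL a) ⊆ H)
    (h3 : ∀ a m : Fin N, a < m → m.rev = m → Sh N F φ (PO a m) ⊆ H)
    {g : SUm N F φ} (hg : g ∈ UU N F φ) (a b : Fin N) (hab : a < b)
    (hclr : ∀ i k : Fin N, i < k → (i < a ∨ (i = a ∧ k < b)) →
      ((gl g : GL (Fin N) F) : Matrix (Fin N) (Fin N) F) i k = 0) :
    ∃ ξ ∈ H, ξ ∈ UU N F φ ∧ ∀ i k : Fin N, i < k → (i < a ∨ (i = a ∧ k ≤ b)) →
      ((gl (g * ξ) : GL (Fin N) F) : Matrix (Fin N) (Fin N) F) i k = 0 := by
  obtain ⟨hlow, hdiag⟩ := mem_UU.1 hg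
  have hrow : ∀ i : Fin N, i < a → ∀ j, j ≠ i →
      ((gl g : GL (Fin N) F) : Matrix (Fin N) (Fin N) F) i j = 0 := by
    intro i hia j hji
    rcases lt_or_gt_of_ne hji with h | h
    · exact hlow i j h
    · exact hclr i j h (Or.inl hia)
  rcases lt_trichotomy b.rev a with hc | hc | hc
  · -- the entry vanishes by unitarity
    refine ⟨1, one_mem H, one_mem _, ?_⟩
    have hx : ((gl g : GL (Fin N) F) : Matrix (Fin N) (Fin N) F) a b = 0 := by
      have hu := row_unitary (gl_mem_UH g) a b.rev
      rw [Finset.sum_eq_single b] at hu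
      · rw [hdiag, map_one, mul_one, Fin.rev_rev, if_neg (ne_of_lt hab)] at hu
        exact hu
      · intro i _ hib
        rw [hrow b.rev hc i.rev (fun e => hib (Fin.rev_injective e)), map_zero, mul_zero]
      · intro h
        exact absurd (Finset.mem_univ _) h
    intro i k hik hlex
    rw [mul_one]
    rcases hlex with h | ⟨rfl, h⟩
    · exact hclr i k hik (Or.inl h)
    · rcases lt_or_eq_of_le h with h' | rfl
      · exact hclr _ k hik (Or.inr ⟨rfl, h'⟩)
      · exact hx
  · -- the position of a long root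
    have hb : b = a.rev := by rw [← hc, Fin.rev_rev]
    subst hb
    have ha : a ≠ a.rev := ne_of_lt hab
    obtain ⟨x, hxdef⟩ : ∃ x : F, ((gl g : GL (Fin N) F) : Matrix (Fin N) (Fin N) F) a a.rev = x :=
      ⟨_, rfl⟩
    have hx : x + φ x = 0 := by
      have hu := row_unitary (gl_mem_UH g) a a
      rw [if_neg ha, Finset.sum_eq_add a a.rev ha] at hu
      · rw [hdiag, one_mul, Fin.rev_rev, hdiag, map_one, mul_one, hxdef] at hu
        rw [add_comm]
        exact hu
      · rintro i _ ⟨hia, hia'⟩
        rcases lt_trichotomy i a with h | h | h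
        · rw [hlow a i h, zero_mul]
        · exact absurd h hia
        · rcases lt_trichotomy i a.rev with h' | h' | h'
          · rw [hclr a i h (Or.inr ⟨rfl, h'⟩), zero_mul]
          · exact absurd h' hia'
          · have h4 : i.rev < a := by
              have := Fin.rev_lt_rev.2 h'
              rwa [Fin.rev_rev] at this
            rw [hlow a i.rev h4, map_zero, mul_zero]
      · intro h
        exact absurd (Finset.mem_univ _) h
      · intro h
        exact absurd (Finset.mem_univ _) h
    have hx' : -x + φ (-x) = 0 := by rw [map_neg, ← neg_add, hx, neg_zero]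
    refine ⟨mk1 (xL a ha (-x)) (xL_mem_UH a ha (-x) hx') (det_xL a ha (-x)),
      h2 a hab (xL_mem_Sh a ha (-x) hx'), ?_, ?_⟩
    · rw [mem_UU, gl_mk1]
      exact tv_isUpU hab (-x)
    · intro i k hik hlex
      rw [gl_mul, Units.val_mul, gl_mk1]
      unfold xL
      rw [mul_tv_apply]
      rcases hlex with h | ⟨rfl, h⟩
      · rw [hclr i k hik (Or.inl h), hrow i h a (ne_of_gt h), zero_mul]
        simp
      · rcases lt_or_eq_of_le h with h' | rfl
        · rw [hclr _ k hik (Or.inr ⟨rfl, h'⟩), if_neg (ne_of_lt h'), add_zero]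
        · rw [if_pos rfl, hdiag, one_mul, hxdef]
          exact add_neg_cancel x
  · -- `a < b.rev`
    have hba : b < a.rev := by
      have := Fin.rev_lt_rev.2 hc
      rwa [Fin.rev_rev] at this
    have hne : a ≠ b := ne_of_lt hab
    have hne1 : a ≠ b.rev := ne_of_lt hc
    have hne2 : a ≠ a.rev := ne_of_lt (lt_trans hab hba)
    have hne3 : b ≠ a.rev := ne_of_lt hba
    obtain ⟨x, hxdef⟩ : ∃ x : F, ((gl g : GL (Fin N) F) : Matrix (Fin N) (Fin N) F) a b = x :=
      ⟨_, rfl⟩
    by_cases hm : b = b.rev
    · -- the middle position in odd dimension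
      have hmr : b.rev = b := hm.symm
      obtain ⟨d, hd⟩ := C.exists_tr (-x * φ (-x)) (by rw [map_mul, C.inv, mul_comm])
      refine ⟨mk1 (xO φ a b hne hne3 hne2 (-x) d)
        (xO_mem_UH φ C.inv a b hne hne3 hne2 hmr (-x) d hd) (det_xO φ a b hne hne3 hne2 (-x) d),
        h3 a b hab hmr (xO_mem_Sh C.inv a b hne hne3 hne2 hmr (-x) d hd), ?_, ?_⟩
      · rw [mem_UU, gl_mk1]
        exact xO_isUpU φ hab hba (-x) d
      · intro i k hik hlex
        rw [gl_mul, Units.val_mul, gl_mk1, mul_xO_apply]
        rcases hlex with h | ⟨rfl, h⟩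
        · rw [hclr i k hik (Or.inl h), hrow i h a (ne_of_gt h),
            hrow i h b (ne_of_gt (lt_trans h hab))]
          simp
        · rcases lt_or_eq_of_le h with h' | rfl
          · rw [hclr _ k hik (Or.inr ⟨rfl, h'⟩), if_neg (ne_of_lt h'),
              if_neg (ne_of_lt (lt_trans h' hba)), add_zero, add_zero]
          · rw [if_pos rfl, if_neg hne3, hdiag, one_mul, hxdef, add_zero]
            exact add_neg_cancel x
    · -- the position of a short root
      refine ⟨mk1 (xS φ a b hne (-x)) (xS_mem_UH C.inv a b hne hne1 hne2 hm (-x))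
        (det_xS φ a b hne (-x)),
        h1 a b hab hc hm (xS_mem_Sh C.inv a b hne hne1 hne2 hm (-x)), ?_, ?_⟩
      · rw [mem_UU, gl_mk1]
        exact xS_isUpU hab (-x)
      · intro i k hik hlex
        rw [gl_mul, Units.val_mul, gl_mk1, mul_xS_apply _ φ a b hne hm]
        rcases hlex with h | ⟨rfl, h⟩
        · rw [hclr i k hik (Or.inl h), hrow i h a (ne_of_gt h),
            hrow i h b.rev (ne_of_gt (lt_trans h hc))]
          simp
        · rcases lt_or_eq_of_le h with h' | rfl
          · rw [hclr _ k hik (Or.inr ⟨rfl, h'⟩), if_neg (ne_of_lt h'),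
              if_neg (ne_of_lt (lt_trans h' hba)), add_zero, add_zero]
          · rw [if_pos rfl, if_neg hne3, hdiag, one_mul, hxdef, add_zero]
            exact add_neg_cancel x

/-- the upper unitriangular subgroup lies in every subgroup which contains the positive root
subgroups -/
theorem GCtx.UU_le (C : GCtx N F φ) (H : Subgroup (SUm N F φ))
    (h1 : ∀ a b : Fin N, a < b → a < b.rev → b ≠ b.rev → Sh N F φ (PS a b) ⊆ H)
    (h2 : ∀ a : Fin N, a < a.rev → Sh N F φ (PL a) ⊆ H)
    (h3 : ∀ a m : Fin N, a < m → m.rev = m → Sh N F φ (PO a m) ⊆ H) : UU N F φ ≤ H := by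
  have key : ∀ m n : ℕ, n + m = N * N → ∀ g ∈ UU N F φ,
      Clr n ((gl g : GL (Fin N) F) : Matrix (Fin N) (Fin N) F) → g ∈ H := by
    intro m
    induction m with
    | zero =>
      intro n hn g hg hclr
      have e : g = 1 := by
        apply gl_injective
        apply Units.ext
        rw [gl_one, Units.val_one]
        ext i k
        rcases lt_trichotomy i k with h | h | h
        · rw [Matrix.one_apply_ne (ne_of_lt h)]
          apply hclr i k h
          have hi := i.2
          have hk := k.2
          have h5 : ((i : ℕ) + 1) * N ≤ N * N := Nat.mul_le_mul_right N hi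
          have e5 : ((i : ℕ) + 1) * N = (i : ℕ) * N + N := by ring
          omega
        · rw [h, (mem_UU.1 hg).2, Matrix.one_apply_eq]
        · rw [(mem_UU.1 hg).1 i k h, Matrix.one_apply_ne (ne_of_gt h)]
      rw [e]
      exact one_mem H
    | succ m ih =>
      intro n hn g hg hclr
      have hnlt : n < N * N := by omega
      have hN : 0 < N := by
        rcases Nat.eq_zero_or_pos N with h | h
        · subst h
          simp at hnlt
        · exact h
      have ha : n / N < N := Nat.div_lt_of_lt_mul hnlt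
      have hb : n % N < N := Nat.mod_lt _ hN
      have hcode : (n / N) * N + n % N = n := Nat.div_add_mod' n N
      have hclr' : Clr (((⟨n / N, ha⟩ : Fin N) : ℕ) * N + ((⟨n % N, hb⟩ : Fin N) : ℕ))
          ((gl g : GL (Fin N) F) : Matrix (Fin N) (Fin N) F) := by
        show Clr ((n / N) * N + n % N) _
        rw [hcode]
        exact hclr
      have hsucc : ∀ g' : SUm N F φ, g' ∈ UU N F φ →
          (∀ i k : Fin N, i < k → (i < (⟨n / N, ha⟩ : Fin N) ∨
            (i = (⟨n / N, ha⟩ : Fin N) ∧ k ≤ (⟨n % N, hb⟩ : Fin N))) →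
            ((gl g' : GL (Fin N) F) : Matrix (Fin N) (Fin N) F) i k = 0) → g' ∈ H := by
        intro g' hg' h
        apply ih (n + 1) (by omega) g' hg'
        have := clr_succ (a := (⟨n / N, ha⟩ : Fin N)) (b := (⟨n % N, hb⟩ : Fin N)) h
        have e : ((⟨n / N, ha⟩ : Fin N) : ℕ) * N + ((⟨n % N, hb⟩ : Fin N) : ℕ) + 1 = n + 1 := by
          show (n / N) * N + n % N + 1 = n + 1
          rw [hcode]
        rwa [e] at this
      by_cases hab : (⟨n / N, ha⟩ : Fin N) < ⟨n % N, hb⟩
      · obtain ⟨ξ, hξH, hξU, hξ⟩ := C.clear_step H h1 h2 h3 hg _ _ hab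
          (fun i k hik hlex => clr_use hclr' i k hik hlex)
        have h5 := hsucc (g * ξ) (mul_mem hg hξU) hξ
        have e : g = g * ξ * ξ⁻¹ := by group
        rw [e]
        exact mul_mem h5 (inv_mem hξH)
      · apply hsucc g hg
        intro i k hik hlex
        rcases hlex with hl | ⟨rfl, hl⟩
        · exact clr_use hclr' i k hik (Or.inl hl)
        · rcases lt_or_eq_of_le hl with hl' | rfl
          · exact clr_use hclr' _ k hik (Or.inr ⟨rfl, hl'⟩)
          · exact absurd hik hab
  intro g hg
  exact key (N * N) 0 (by omega) g hg (fun i k _ h => absurd h (Nat.not_lt_zero _))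

end grp

end Cfsg.Agent.Lib.Helper5.AutSO
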