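import Cfsg.Agent.Lib.Helper5.AutSO.GenG
import Mathlib

/-!
# The odd-dimensional orthogonal group: the monomial element of the last node (helper5)
-/

set_option autoImplicit false

namespace Cfsg.Agent.Lib.Helper5.AutSO

open Matrix Cfsg Cfsg.Agent.Lib.Helper5.GLBN Cfsg.Agent.Lib.Helper8.SpBN
open Cfsg.Agent.Lib.Helper8.Tw Cfsg.Agent.PSUT Cfsg.Agent.Lib.Helper5.AutSU
open scoped MatrixGroups

section entries

variable {N : ℕ} {F : Type*} [Field F]

/-- the entries of the monomial element of the last node -/
theorem odd_mono_entries (k m e : Fin N) (hkm : k ≠ m) (hmk : m ≠ k.rev) (hk : k ≠ k.rev)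
    (hem : e ≠ m) (hme : m ≠ e.rev) (he : e ≠ e.rev) (hke : k.rev = e) (hek : e.rev = k)
    (b : F) (hb : 2 * b = -1) (i j : Fin N) :
    ((xO (RingHom.id F) k m hkm hmk hk 1 b * xO (RingHom.id F) e m hem hme he 2 (-2)
      * xO (RingHom.id F) k m hkm hmk hk 1 b : GL (Fin N) F) : Matrix (Fin N) (Fin N) F) i j
    = if i = k ∧ j = e then b else if i = m ∧ j = m then -1 else if i = e ∧ j = k then -2
      else if i = j ∧ i ≠ k ∧ i ≠ m ∧ i ≠ e then 1 else 0 := by
  have hke' : k ≠ e := by rw [← hke]; exact hk
  have hmk' : m ≠ k := hkm.symm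
  have hme' : m ≠ e := hem.symm
  have hek' : e ≠ k := hke'.symm
  rw [Units.val_mul, Units.val_mul]
  simp only [mul_xO_apply, xO_apply, RingHom.id_apply, hke, hek]
  by_cases hi1 : i = k
  · subst hi1
    by_cases hj1 : j = i
    · subst hj1
      simp [hkm, hke', hmk', hme', hek', hem]
      linear_combination (-1 : F) * hb
    · by_cases hj2 : j = m
      · subst hj2
        simp [hkm, hke', hmk', hme', hek', hem, hj1]
        ring
      · by_cases hj3 : j = e
        · subst hj3
          simp [hkm, hke', hmk', hme', hek', hem, hj1, hj2]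
          linear_combination (-b - 1) * hb
        · have h1 : i ≠ j := fun h => hj1 h.symm
          have h2 : m ≠ j := fun h => hj2 h.symm
          have h3 : e ≠ j := fun h => hj3 h.symm
          simp [hkm, hke', hmk', hme', hek', hem, hj1, hj2, hj3, h1, h2, h3]
  · by_cases hi2 : i = m
    · subst hi2
      by_cases hj1 : j = k
      · subst hj1
        simp [hkm, hke', hmk', hme', hek', hem, hi1]
      · by_cases hj2 : j = i
        · subst hj2
          simp [hkm, hke', hmk', hme', hek', hem, hi1]
          ring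
        · by_cases hj3 : j = e
          · subst hj3
            simp [hkm, hke', hmk', hme', hek', hem, hj1, hj2, hi1]
            ring
          · have h1 : i ≠ j := fun h => hj2 h.symm
            have h2 : k ≠ j := fun h => hj1 h.symm
            have h3 : e ≠ j := fun h => hj3 h.symm
            simp [hkm, hke', hmk', hme', hek', hem, hj1, hj2, hj3, h1, h2, h3, hi1]
    · by_cases hi3 : i = e
      · subst hi3
        by_cases hj1 : j = k
        · subst hj1
          simp [hkm, hke', hmk', hme', hek', hem, hi1, hi2]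
        · by_cases hj2 : j = m
          · subst hj2
            simp [hkm, hke', hmk', hme', hek', hem, hi1, hi2, hj1]
          · by_cases hj3 : j = i
            · subst hj3
              simp [hkm, hke', hmk', hme', hek', hem, hj1, hj2, hi1, hi2]
              linear_combination (-1 : F) * hb
            · have h1 : i ≠ j := fun h => hj3 h.symm
              have h2 : k ≠ j := fun h => hj1 h.symm
              have h3 : m ≠ j := fun h => hj2 h.symm
              simp [hkm, hke', hmk', hme', hek', hem, hj1, hj2, hj3, h1, h2, h3, hi1, hi2]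
      · have h1 : k ≠ i := fun h => hi1 h.symm
        have h2 : m ≠ i := fun h => hi2 h.symm
        have h3 : e ≠ i := fun h => hi3 h.symm
        by_cases hij : i = j
        · subst hij
          simp [hkm, hke', hmk', hme', hek', hem, hi1, hi2, hi3, h1, h2, h3]
        · simp [hkm, hke', hmk', hme', hek', hem, hi1, hi2, hi3, h1, h2, h3, hij]

end entries

section grp

variable {N : ℕ} {F : Type*} [Field F] [Fintype F]

/-- the standing hypotheses hold for the identity in odd characteristic -/
theorem gctx_id (h2 : (2 : F) ≠ 0) (hN : 3 ≤ N) : GCtx N F (RingHom.id F) where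
  hN := hN
  inv := fun _ => rfl
  exists_tr := fun s _ => ⟨-(s / 2), by
    simp only [RingHom.id_apply]
    field_simp
    ring⟩

/-- the rank one subgroup of the last node contains a monomial element inducing the
reflection -/
theorem exists_mono_last_odd (h2 : (2 : F) ≠ 0) {j : ℕ} (hj : 2 * j + 3 = N) :
    ∃ n : SUm N F (RingHom.id F), n ∈ LL N F (RingHom.id F) j ∧
      IsMono ((gl n : GL (Fin N) F) : Matrix (Fin N) (Fin N) F) (rho N j) := by
  have hφ : ∀ x : F, (RingHom.id F) ((RingHom.id F) x) = x := fun _ => rfl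
  obtain ⟨b, hb⟩ : ∃ b : F, 2 * b = -1 := ⟨-(1 / 2), by field_simp⟩
  have hb1 : b + (RingHom.id F) b + 1 * (RingHom.id F) 1 = 0 := by
    simp only [RingHom.id_apply]
    linear_combination hb
  have hd1 : (-2 : F) + (RingHom.id F) (-2) + 2 * (RingHom.id F) 2 = 0 := by
    simp only [RingHom.id_apply]
    ring
  refine ⟨xpO hφ j hj 1 b hb1 * xmO hφ j hj 2 (-2) hd1 * xpO hφ j hj 1 b hb1, ?_, ?_⟩
  · exact mul_mem (mul_mem (Xp_le_LL j (xpO_mem_Xp hφ j hj 1 b hb1))
      (Xm_le_LL j (xmO_mem_Xm hφ j hj 2 (-2) hd1))) (Xp_le_LL j (xpO_mem_Xp hφ j hj 1 b hb1))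
  · rw [gl_mul, gl_mul, gl_xpO, gl_xmO]
    have hk0 : j < N := by omega
    have hm0 : j + 1 < N := by omega
    have he0 : j + 2 < N := by omega
    have hke : (⟨j, hk0⟩ : Fin N).rev = ⟨j + 2, he0⟩ := by
      apply Fin.ext
      rw [Fin.val_rev]
      simp only
      omega
    have hek : (⟨j + 2, he0⟩ : Fin N).rev = ⟨j, hk0⟩ := by
      apply Fin.ext
      rw [Fin.val_rev]
      simp only
      omega
    have hval : ∀ x : Fin N, ((rho N j x : Fin N) : ℕ)
        = if (x : ℕ) = j then N - 1 - j else if (x : ℕ) + j + 1 = N then j else x :=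
      fun x => rho_val_mid (by omega) x
    intro i k hik
    rw [odd_mono_entries _ _ _ _ _ _ _ _ _ hke hek b hb]
    rw [if_neg, if_neg, if_neg, if_neg]
    · rintro ⟨h1, h2, h3, h4⟩
      apply hik
      rw [← h1]
      apply Fin.ext
      rw [hval]
      have hv1 : (i : ℕ) ≠ j := fun e => h2 (Fin.ext e)
      have hv2 : (i : ℕ) ≠ j + 2 := fun e => h4 (Fin.ext e)
      split_ifs <;> omega
    · rintro ⟨h1, h2⟩
      apply hik
      rw [h1, h2]
      apply Fin.ext
      rw [hval]
      simp only
      split_ifs <;> omega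
    · rintro ⟨h1, h2⟩
      apply hik
      rw [h1, h2]
      apply Fin.ext
      rw [hval]
      simp only
      split_ifs <;> omega
    · rintro ⟨h1, h2⟩
      apply hik
      rw [h1, h2]
      apply Fin.ext
      rw [hval]
      simp only
      split_ifs <;> omega

/-- the subgroup generated by the fundamental root subgroups contains the monomial elements of
the nodes -/
theorem goodH_odd (h2 : (2 : F) ≠ 0) (hN3 : 3 ≤ N) (hodd : N % 2 = 1) :
    GoodH (HH N F (RingHom.id F)) where
  hX := fun _ hj => Xp_le_HH hj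
  hn := fun j hj => by
    by_cases h : j + 1 < N / 2
    · obtain ⟨n, hn, hm⟩ := (gctx_id h2 hN3).exists_mono_short h
      exact ⟨n, LL_le_HH hj hn, hm⟩
    · have hj3 : 2 * j + 3 = N := by omega
      obtain ⟨n, hn, hm⟩ := exists_mono_last_odd h2 hj3
      exact ⟨n, LL_le_HH hj hn, hm⟩

theorem UU_le_HH_odd (h2 : (2 : F) ≠ 0) (hN3 : 3 ≤ N) (hodd : N % 2 = 1) :
    UU N F (RingHom.id F) ≤ HH N F (RingHom.id F) :=
  (gctx_id h2 hN3).UU_le _ (goodH_odd h2 hN3 hodd).PS_all (goodH_odd h2 hN3 hodd).PL_all
    (goodH_odd h2 hN3 hodd).PO_all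

end grp

end Cfsg.Agent.Lib.Helper5.AutSO
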