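import Cfsg.Agent.Lib.Helper5.AutSO.GenO1
import Cfsg.Agent.Lib.Helper8.Tw.OData
import Cfsg.Agent.Lib.Helper5.BN
import Mathlib

/-!
# The odd-dimensional special orthogonal group: the derived subgroup lies in the subgroup
generated by the fundamental root subgroups (helper5)
-/

set_option autoImplicit false

namespace Cfsg.Agent.Lib.Helper5.AutSO

open Matrix Cfsg Cfsg.Agent.Lib.Helper5.GLBN Cfsg.Agent.Lib.Helper8.SpBN
open Cfsg.Agent.Lib.Helper8.Tw Cfsg.Agent.PSUT Cfsg.Agent.Lib.Helper5.AutSU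
open scoped MatrixGroups

section mono

variable {N : ℕ} {F : Type*} [Field F] [Fintype F] {φ : F →+* F}

/-- every product of reflections is induced by a monomial element of `H` -/
theorem exists_mono_of_mem_closure {H : Subgroup (SUm N F φ)} (hH : GoodH H)
    {π : Equiv.Perm (Fin N)} (hcl : π ∈ Subgroup.closure (rho N '' Set.Iio (N / 2))) :
    ∃ h ∈ H, IsMono ((gl h : GL (Fin N) F) : Matrix (Fin N) (Fin N) F) π := by
  induction hcl using Subgroup.closure_induction with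
  | mem x hx =>
    obtain ⟨j, hj, rfl⟩ := hx
    exact hH.hn j hj
  | one =>
    refine ⟨1, one_mem _, ?_⟩
    rw [gl_one, Units.val_one]
    exact isMono_one
  | mul x y _ _ hx hy =>
    obtain ⟨h1, hh1, hm1⟩ := hx
    obtain ⟨h2, hh2, hm2⟩ := hy
    refine ⟨h1 * h2, mul_mem hh1 hh2, ?_⟩
    rw [gl_mul, Units.val_mul]
    exact hm1.mul hm2
  | inv x _ hx =>
    obtain ⟨h1, hh1, hm1⟩ := hx
    refine ⟨h1⁻¹, inv_mem hh1, ?_⟩
    rw [gl_inv]
    exact hm1.inv

/-- a monomial element lies in `H T` -/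
theorem mono_mem_sup {H : Subgroup (SUm N F φ)} (hH : GoodH H) {n : SUm N F φ}
    (hn : gl n ∈ monoN N F) : n ∈ H ⊔ TT N F φ := by
  obtain ⟨π, hπ⟩ := mem_monoN.1 hn
  have hrev : revC π = π := by
    have h1 : IsMono ((usig φ (gl n) : GL (Fin N) F) : Matrix (Fin N) (Fin N) F) (revC π) :=
      usig_isMono φ hπ
    rw [mem_UH.1 (gl_mem_UH n)] at h1
    exact h1.unique hπ
  obtain ⟨h, hh, hm⟩ := exists_mono_of_mem_closure hH
    (mem_closure_rho π ((revC_eq_self_iff π).1 hrev))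
  have hd : IsMono ((gl (h⁻¹ * n) : GL (Fin N) F) : Matrix (Fin N) (Fin N) F) 1 := by
    rw [gl_mul, gl_inv, Units.val_mul]
    have h1 := hm.inv.mul hπ
    rwa [inv_mul_cancel] at h1
  have e : n = h * (h⁻¹ * n) := by group
  rw [e]
  exact mul_mem (Subgroup.mem_sup_left hh) (Subgroup.mem_sup_right (mem_TT_of_isMono hd))

/-- if `H T` is the whole group then `H` is normal -/
theorem HH_normal_of_sup (hsup : HH N F φ ⊔ TT N F φ = ⊤) : (HH N F φ).Normal := by
  rw [← Subgroup.normalizer_eq_top_iff, eq_top_iff, ← hsup]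
  apply sup_le
  · exact Subgroup.le_normalizer
  · intro t ht
    rw [Subgroup.mem_normalizer_iff]
    intro h
    constructor
    · intro hh
      exact conj_TT_mem_HH ht hh
    · intro hh
      have h1 := conj_TT_mem_HH (inv_mem ht) hh
      have e : t⁻¹ * (t * h * t⁻¹) * t⁻¹⁻¹ = h := by group
      rwa [e] at h1

/-- if `H T` is the whole group then `H` contains the derived subgroup -/
theorem commutator_le_HH_of_sup (hsup : HH N F φ ⊔ TT N F φ = ⊤) :
    commutator (SUm N F φ) ≤ HH N F φ := by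
  have := HH_normal_of_sup hsup
  exact Subgroup.Normal.commutator_le_of_self_sup_commutative_eq_top hsup TT_isMulCommutative

end mono

section bruhat

variable {N : ℕ} {F : Type*} [Field F] [Fintype F]

/-- the Bruhat decomposition of the fixed points, with unipotent factors -/
theorem exists_bruhat_tw (T : TwData N F) (x : ↥T.G) :
    ∃ u : ↥T.G, u ∈ T.UF ∧ ∃ m : ↥T.G, (m : GL (Fin N) F) ∈ monoN N F ∧
      ∃ u' : ↥T.G, u' ∈ T.UF ∧ x = u * m * u' := by
  obtain ⟨⟨n, hnN⟩, hn⟩ := Cfsg.Agent.Lib.Helper5.BN.exists_N_mem_D T.bn x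
  obtain ⟨b, hb, b', hb', e⟩ := (Cfsg.Agent.Lib.Helper5.BN.mem_D T.bn).1 hn
  obtain ⟨t, ht, hu⟩ := T.exists_torus_decomp hb
  obtain ⟨t', ht', hu'⟩ := T.exists_torus_decomp (inv_mem hb')
  refine ⟨b * t⁻¹, hu, t * n * t'⁻¹, ?_, (b'⁻¹ * t'⁻¹)⁻¹, inv_mem hu', ?_⟩
  · have h1 : (t : GL (Fin N) F) ∈ monoN N F := mem_monoN.2 ⟨1, T.mem_diagK_iff.1 ht⟩
    have h2' : (t' : GL (Fin N) F) ∈ monoN N F := mem_monoN.2 ⟨1, T.mem_diagK_iff.1 ht'⟩
    have h3 : (n : GL (Fin N) F) ∈ monoN N F := T.mem_NF.1 hnN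
    rw [Subgroup.coe_mul, Subgroup.coe_mul, Subgroup.coe_inv]
    exact mul_mem (mul_mem h1 h3) (inv_mem h2')
  · rw [e]
    group

/-- helper8's data of the odd-dimensional orthogonal group -/
noncomputable def oTw (h2 : (2 : F) ≠ 0) (hodd : N % 2 = 1) : TwData N F := oData h2 N hodd

/-- the Bruhat decomposition of the special orthogonal group -/
theorem exists_UNU (h2 : (2 : F) ≠ 0) (hodd : N % 2 = 1) (g : SUm N F (RingHom.id F)) :
    ∃ u ∈ UU N F (RingHom.id F), ∃ n : SUm N F (RingHom.id F), gl n ∈ monoN N F ∧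
      ∃ u' ∈ UU N F (RingHom.id F), g = u * n * u' := by
  obtain ⟨(u : ↥(UH N F (RingHom.id F))), hu, (m : ↥(UH N F (RingHom.id F))), hm,
    (u' : ↥(UH N F (RingHom.id F))), hu', e⟩ :=
      exists_bruhat_tw (oTw h2 hodd) (g : ↥(UH N F (RingHom.id F)))
  have e' : (g : ↥(UH N F (RingHom.id F))) = u * m * u' := e
  have hu0 : (u : GL (Fin N) F) ∈ UT N F := (oTw h2 hodd).mem_UF.1 hu
  have hu0' : (u' : GL (Fin N) F) ∈ UT N F := (oTw h2 hodd).mem_UF.1 hu'
  have hN0 : u ∈ N1 N F (RingHom.id F) :=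
    mem_N1.2 (det_of_isUpU ⟨mem_upper.1 hu0.1, hu0.2⟩)
  have hN0' : u' ∈ N1 N F (RingHom.id F) :=
    mem_N1.2 (det_of_isUpU ⟨mem_upper.1 hu0'.1, hu0'.2⟩)
  have hNm : m ∈ N1 N F (RingHom.id F) := by
    have e3 : m = u⁻¹ * (g : ↥(UH N F (RingHom.id F))) * u'⁻¹ := by
      rw [e']
      group
    rw [e3]
    exact mul_mem (mul_mem (inv_mem hN0) g.2) (inv_mem hN0')
  refine ⟨⟨u, hN0⟩, ?_, ⟨m, hNm⟩, hm, ⟨u', hN0'⟩, ?_, ?_⟩
  · rw [mem_UU_iff_UT]
    exact hu0
  · rw [mem_UU_iff_UT]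
    exact hu0'
  · apply Subtype.ext
    exact e'

end bruhat

section main

variable {N : ℕ} {F : Type*} [Field F] [Fintype F]

theorem sup_TT_eq_top_odd (h2 : (2 : F) ≠ 0) (hN3 : 3 ≤ N) (hodd : N % 2 = 1) :
    HH N F (RingHom.id F) ⊔ TT N F (RingHom.id F) = ⊤ := by
  rw [eq_top_iff]
  intro g _
  obtain ⟨u, hu, n, hn, u', hu', rfl⟩ := exists_UNU h2 hodd g
  have hU := UU_le_HH_odd h2 hN3 hodd
  exact mul_mem (mul_mem (Subgroup.mem_sup_left (hU hu))
    (mono_mem_sup (goodH_odd h2 hN3 hodd) hn)) (Subgroup.mem_sup_left (hU hu'))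

/-- the derived subgroup of the special orthogonal group lies in the subgroup generated by the
fundamental root subgroups -/
theorem commutator_le_HH_odd (h2 : (2 : F) ≠ 0) (hN3 : 3 ≤ N) (hodd : N % 2 = 1) :
    commutator (SUm N F (RingHom.id F)) ≤ HH N F (RingHom.id F) :=
  commutator_le_HH_of_sup (sup_TT_eq_top_odd h2 hN3 hodd)

/-- **GEN for the odd-dimensional orthogonal group**: a subgroup of the special orthogonal group
which contains all the fundamental root subgroups contains the derived subgroup -/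
theorem gen_odd (h2 : (2 : F) ≠ 0) (hN3 : 3 ≤ N) (hodd : N % 2 = 1)
    (H : Subgroup (SUm N F (RingHom.id F)))
    (hH : ∀ i, i < N / 2 → Xp N F (RingHom.id F) i ≤ H ∧ Xm N F (RingHom.id F) i ≤ H) :
    commutator (SUm N F (RingHom.id F)) ≤ H := by
  refine le_trans (commutator_le_HH_odd h2 hN3 hodd) ?_
  unfold HH
  rw [Subgroup.closure_le]
  rintro x (hx | hx)
  · obtain ⟨j, hj, hxj⟩ := Set.mem_iUnion₂.1 hx
    exact (hH j (Finset.mem_range.1 hj)).1 hxj
  · obtain ⟨j, hj, hxj⟩ := Set.mem_iUnion₂.1 hx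
    exact (hH j (Finset.mem_range.1 hj)).2 hxj

end main

end Cfsg.Agent.Lib.Helper5.AutSO
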